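import Mathlib.RingTheory.TensorProduct.Basic
import Mathlib.FieldTheory.IntermediateField.Adjoin.Basic
import Mathlib.LinearAlgebra.Dual.Lemmas

/-!
# Irreducibility of base changes of a module over an associative algebra
-/

set_option autoImplicit false

open scoped TensorProduct

namespace K974.AbsIrr

variable {K : Type*} [Field K] {D : Type*} [Ring D] [Algebra K D]
  {E : Type*} [AddCommGroup E] [Module K E] [Module D E] [IsScalarTower K D E]

/-- `L ⊗ E` has no proper nonzero stable `L`-subspace. -/
def Simple (K : Type*) [Field K] (D : Type*) [Ring D] [Algebra K D]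
    (E : Type*) [AddCommGroup E] [Module K E] [Module D E] [IsScalarTower K D E]
    (L : Type*) [Field L] [Algebra K L] : Prop :=
  ∀ N : Submodule L (L ⊗[K] E), (∀ (d : D) (x : L ⊗[K] E), x ∈ N →
    (DistribSMul.toLinearMap K E d).baseChange L x ∈ N) → N = ⊥ ∨ N = ⊤

section J

variable {L Ω : Type*} [Field L] [Algebra K L] [Field Ω] [Algebra K Ω] (ψ : L →ₐ[K] Ω)

/-- The comparison map `L ⊗ E → Ω ⊗ E`. -/
noncomputable def j (E : Type*) [AddCommGroup E] [Module K E] : L ⊗[K] E →ₗ[K] Ω ⊗[K] E :=
  LinearMap.rTensor E ψ.toLinearMap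

lemma j_tmul (l : L) (e : E) : j ψ E (l ⊗ₜ[K] e) = ψ l ⊗ₜ[K] e := rfl

lemma j_smul (l : L) (x : L ⊗[K] E) : j ψ E (l • x) = ψ l • j ψ E x := by
  induction x using TensorProduct.induction_on with
  | zero => rw [smul_zero, map_zero, smul_zero]
  | tmul a e =>
    rw [TensorProduct.smul_tmul', j_tmul, j_tmul, TensorProduct.smul_tmul', smul_eq_mul,
      smul_eq_mul, map_mul]
  | add x y hx hy => rw [smul_add, map_add, hx, hy, map_add, smul_add]

lemma j_act (d : D) (x : L ⊗[K] E) :
    j ψ E ((DistribSMul.toLinearMap K E d).baseChange L x) =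
      (DistribSMul.toLinearMap K E d).baseChange Ω (j ψ E x) := by
  induction x using TensorProduct.induction_on with
  | zero => rw [map_zero, map_zero, map_zero]
  | tmul a e => rw [LinearMap.baseChange_tmul, j_tmul, j_tmul, LinearMap.baseChange_tmul]
  | add x y hx hy => rw [map_add, map_add, hx, hy, map_add, map_add]

lemma exists_retract : ∃ r : Ω →ₗ[K] L, (∀ l, r (ψ l) = l) ∧ ∀ l ω, r (ω * ψ l) = l * r ω := by
  let _ : Algebra L Ω := ψ.toRingHom.toAlgebra
  have hsm : ∀ (l : L) (ω : Ω), l • ω = ψ l * ω := fun _ _ => rfl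
  have hinj : LinearMap.ker (Algebra.linearMap L Ω) = ⊥ :=
    LinearMap.ker_eq_bot.2 (algebraMap L Ω).injective
  obtain ⟨r, hr⟩ := (Algebra.linearMap L Ω).exists_leftInverse_of_injective hinj
  refine ⟨{ toFun := r, map_add' := r.map_add, map_smul' := fun c x => ?_ }, ?_, ?_⟩
  · have h : c • x = (algebraMap K L c) • x := by
      rw [hsm, ψ.commutes, Algebra.smul_def]
    rw [RingHom.id_apply, h, r.map_smul, smul_eq_mul, Algebra.smul_def]
  · intro l
    exact LinearMap.congr_fun hr l
  · intro l ω
    change r (ω * ψ l) = l * r ω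
    rw [mul_comm, ← hsm, r.map_smul, smul_eq_mul]

include ψ in
lemma j_injective : Function.Injective (j ψ E) := by
  obtain ⟨r, hr, -⟩ := exists_retract ψ
  have h : ∀ x, LinearMap.rTensor E r (j ψ E x) = x := by
    intro x
    induction x using TensorProduct.induction_on with
    | zero => rw [map_zero, map_zero]
    | tmul a e => rw [j_tmul, LinearMap.rTensor_tmul, hr]
    | add x y hx hy => rw [map_add, map_add, hx, hy]
  exact Function.LeftInverse.injective h

include ψ in
theorem simple_of_simple (h : Simple K D E Ω) : Simple K D E L := by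
  intro N hN
  obtain ⟨r, hr, hr2⟩ := exists_retract ψ
  have hq : ∀ (ω : Ω) (x : L ⊗[K] E), LinearMap.rTensor E r (ω • j ψ E x) = r ω • x := by
    intro ω x
    induction x using TensorProduct.induction_on with
    | zero => rw [map_zero, smul_zero, map_zero, smul_zero]
    | tmul a e =>
      rw [j_tmul, TensorProduct.smul_tmul', LinearMap.rTensor_tmul, TensorProduct.smul_tmul',
        smul_eq_mul, smul_eq_mul, hr2, mul_comm]
    | add x y hx hy => rw [map_add, smul_add, map_add, hx, hy, smul_add]
  have hr1 : r 1 = 1 := by rw [← map_one ψ, hr]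
  have hstab : ∀ (d : D) (x : Ω ⊗[K] E), x ∈ Submodule.span Ω (j ψ E '' N) →
      (DistribSMul.toLinearMap K E d).baseChange Ω x ∈ Submodule.span Ω (j ψ E '' N) := by
    intro d x hx
    refine Submodule.span_induction (p := fun x _ =>
      (DistribSMul.toLinearMap K E d).baseChange Ω x ∈ Submodule.span Ω (j ψ E '' N))
      ?_ ?_ ?_ ?_ hx
    · rintro _ ⟨n, hn, rfl⟩
      rw [← j_act]
      exact Submodule.subset_span ⟨_, hN d n hn, rfl⟩
    · rw [map_zero]; exact zero_mem _
    · intro x y _ _ hx hy
      rw [map_add]; exact add_mem hx hy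
    · intro a x _ hx
      rw [map_smul]; exact Submodule.smul_mem _ _ hx
  rcases h _ hstab with h | h
  · left
    rw [eq_bot_iff]
    intro n hn
    have h1 : j ψ E n ∈ Submodule.span Ω (j ψ E '' N) := Submodule.subset_span ⟨n, hn, rfl⟩
    rw [h, Submodule.mem_bot] at h1
    rw [Submodule.mem_bot]
    exact j_injective ψ (by rw [h1, map_zero])
  · right
    rw [eq_top_iff]
    intro x _
    have h1 : j ψ E x ∈ Submodule.span Ω (j ψ E '' N) := by rw [h]; trivial
    have h2 : ∀ y ∈ Submodule.span Ω (j ψ E '' N), ∀ ω : Ω,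
        LinearMap.rTensor E r (ω • y) ∈ N := by
      intro y hy
      refine Submodule.span_induction (p := fun y _ => ∀ ω : Ω,
        LinearMap.rTensor E r (ω • y) ∈ N) ?_ ?_ ?_ ?_ hy
      · rintro _ ⟨n, hn, rfl⟩ ω
        rw [hq]
        exact N.smul_mem _ hn
      · intro ω
        rw [smul_zero, map_zero]; exact zero_mem _
      · intro x y _ _ hx hy ω
        rw [smul_add, map_add]; exact add_mem (hx ω) (hy ω)
      · intro a x _ hx ω
        rw [smul_smul]; exact hx _
    have h3 := h2 _ h1 1
    rwa [hq, hr1, one_smul] at h3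

end J

lemma nontrivial_iff (L : Type*) [Field L] [Algebra K L] (E : Type*) [AddCommGroup E]
    [Module K E] : Nontrivial (L ⊗[K] E) ↔ Nontrivial E := by
  constructor
  · intro h
    by_contra hcon
    rw [not_nontrivial_iff_subsingleton] at hcon
    have hz : ∀ z : L ⊗[K] E, z = 0 := by
      intro z
      induction z using TensorProduct.induction_on with
      | zero => rfl
      | tmul a b => rw [Subsingleton.elim b 0, TensorProduct.tmul_zero]
      | add x y hx hy => rw [hx, hy, add_zero]
    obtain ⟨x, y, hxy⟩ := h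
    exact hxy (by rw [hz x, hz y])
  · intro h
    obtain ⟨e, he⟩ := exists_ne (0 : E)
    have hne : ¬ ∀ l : Module.Dual K E, l e = 0 := by
      rw [Module.forall_dual_apply_eq_zero_iff K e]
      exact he
    push Not at hne
    obtain ⟨l, hl⟩ := hne
    refine ⟨1 ⊗ₜ[K] e, 0, fun h0 => ?_⟩
    have h1 := congrArg ((TensorProduct.rid K L).toLinearMap ∘ₗ LinearMap.lTensor L l) h0
    rw [map_zero, LinearMap.comp_apply, LinearMap.lTensor_tmul, LinearEquiv.coe_coe,
      TensorProduct.rid_tmul, Algebra.smul_def, mul_one] at h1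
    exact hl ((map_eq_zero _).1 h1)

lemma exists_descent {Ω : Type*} [Field Ω] [Algebra K Ω] [Algebra.IsAlgebraic K Ω]
    (x : Ω ⊗[K] E) : ∃ (L : IntermediateField K Ω) (_ : FiniteDimensional K L) (x' : L ⊗[K] E),
      j L.val E x' = x := by
  induction x using TensorProduct.induction_on with
  | zero => exact ⟨⊥, inferInstance, 0, map_zero _⟩
  | tmul a e =>
    exact ⟨IntermediateField.adjoin K {a},
      IntermediateField.adjoin.finiteDimensional (Algebra.IsIntegral.isIntegral a),
      ⟨a, IntermediateField.mem_adjoin_simple_self K a⟩ ⊗ₜ[K] e, rfl⟩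
  | add x y hx hy =>
    obtain ⟨L1, _, x', rfl⟩ := hx
    obtain ⟨L2, _, y', rfl⟩ := hy
    have hcomp : ∀ (L L' : IntermediateField K Ω) (h : L ≤ L') (z : L ⊗[K] E),
        j L'.val E (j (IntermediateField.inclusion h) E z) = j L.val E z := by
      intro L L' h z
      induction z using TensorProduct.induction_on with
      | zero => rw [map_zero, map_zero, map_zero]
      | tmul a e => rfl
      | add x y hx hy => rw [map_add, map_add, hx, hy, map_add]
    refine ⟨L1 ⊔ L2, inferInstance,
      j (IntermediateField.inclusion le_sup_left) E x' +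
        j (IntermediateField.inclusion le_sup_right) E y', ?_⟩
    rw [map_add, hcomp, hcomp]

theorem simple_of_forall {Ω : Type*} [Field Ω] [Algebra K Ω] [Algebra.IsAlgebraic K Ω]
    (h : ∀ (L : IntermediateField K Ω) (_ : FiniteDimensional K L), Simple K D E L) :
    Simple K D E Ω := by
  intro N hN
  by_cases hb : N = ⊥
  · exact Or.inl hb
  right
  obtain ⟨x, hxN, hx0⟩ := N.exists_mem_ne_zero_of_ne_bot hb
  obtain ⟨L, hL, x', rfl⟩ := exists_descent x
  let N' : Submodule L (L ⊗[K] E) :=
    { carrier := {y | j L.val E y ∈ N}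
      add_mem' := fun {a b} ha hb => by
        change j L.val E (a + b) ∈ N
        rw [map_add]; exact add_mem ha hb
      zero_mem' := by
        change j L.val E 0 ∈ N
        rw [map_zero]; exact zero_mem _
      smul_mem' := fun c y hy => by
        change j L.val E (c • y) ∈ N
        rw [j_smul]; exact N.smul_mem _ hy }
  have hN' : ∀ y, y ∈ N' ↔ j L.val E y ∈ N := fun y => Iff.rfl
  rcases h L hL N' (fun d y hy => by
    rw [hN', j_act]
    exact hN d _ hy) with h1 | h1
  · exfalso
    have h2 : x' ∈ N' := hxN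
    rw [h1, Submodule.mem_bot] at h2
    exact hx0 (by rw [h2, map_zero])
  · rw [eq_top_iff]
    intro z _
    induction z using TensorProduct.induction_on with
    | zero => exact zero_mem _
    | tmul a e =>
      have h2 : (1 : L) ⊗ₜ[K] e ∈ N' := by rw [h1]; trivial
      rw [hN', j_tmul, map_one] at h2
      have h3 := N.smul_mem a h2
      rwa [TensorProduct.smul_tmul', smul_eq_mul, mul_one] at h3
    | add x y hx hy => exact add_mem (hx trivial) (hy trivial)

end K974.AbsIrr
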