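import Mathlib.RingTheory.Flat.EquationalCriterion
import Mathlib.RingTheory.LocalRing.MaximalIdeal.Basic
import Mathlib.RingTheory.Nakayama
import Mathlib.RingTheory.Artinian.Ring
import Mathlib.RingTheory.HopkinsLevitzki
import Groth.Prelude.Def_ArtFun

/-!
# Endomorphisms of a deformation of a module with scalar endomorphisms
-/

set_option autoImplicit false

namespace K974.EndScalar

section Flat

variable {R : Type*} [CommRing R] {F : Type*} [AddCommGroup F] [Module R F]

lemma exists_sum_of_mem_smul_top (J : Ideal R) {z : F} (hz : z ∈ J • (⊤ : Submodule R F)) :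
    ∃ (ι : Type) (_ : Fintype ι) (j : ι → R) (y : ι → F), (∀ i, j i ∈ J) ∧ z = ∑ i, j i • y i := by
  refine Submodule.smul_induction_on hz ?_ ?_
  · intro r hr n _
    exact ⟨Unit, inferInstance, fun _ => r, fun _ => n, fun _ => hr, by simp⟩
  · rintro x y ⟨ι, _, j, u, hj, rfl⟩ ⟨κ, _, j', u', hj', rfl⟩
    refine ⟨ι ⊕ κ, inferInstance, Sum.elim j j', Sum.elim u u', ?_, ?_⟩
    · rintro (i | i)
      · exact hj i
      · exact hj' i
    · rw [Fintype.sum_sum_type]
      rfl

/-- In a flat module, `a x ∈ J F` implies `x ∈ (J : a) F`. -/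
lemma mem_of_smul_mem [Module.Flat R F] (J : Ideal R) (a : R) (x : F)
    (h : a • x ∈ J • (⊤ : Submodule R F)) (I : Ideal R) (hI : ∀ c, a * c ∈ J → c ∈ I) :
    x ∈ I • (⊤ : Submodule R F) := by
  obtain ⟨ι, _, j, y, hj, hsum⟩ := exists_sum_of_mem_smul_top J h
  let f' : Option ι → R := fun o => o.elim a (fun i => -j i)
  let x' : Option ι → F := fun o => o.elim x y
  have h0 : ∑ o, f' o • x' o = 0 := by
    rw [Fintype.sum_option]
    change a • x + ∑ i, (-j i) • y i = 0
    rw [hsum]
    simp [Finset.sum_neg_distrib]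
  obtain ⟨k, c, u, hx, hc⟩ := Module.Flat.isTrivialRelation_of_sum_smul_eq_zero h0
  have hx0 : x = ∑ l, c none l • u l := hx none
  rw [hx0]
  refine Submodule.sum_mem _ fun l _ => Submodule.smul_mem_smul (hI _ ?_) trivial
  have h1 := hc l
  rw [Fintype.sum_option] at h1
  change a * c none l + ∑ i, (-j i) * c (some i) l = 0 at h1
  rw [add_eq_zero_iff_eq_neg] at h1
  rw [h1]
  refine neg_mem (Submodule.sum_mem _ fun i _ => ?_)
  rw [neg_mul]
  exact neg_mem (J.mul_mem_right _ (hj i))

lemma stable {D : Type*} [Ring D] [Module D F] [SMulCommClass R D F] (J : Ideal R) (d : D) {x : F}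
    (hx : x ∈ J • (⊤ : Submodule R F)) : d • x ∈ J • (⊤ : Submodule R F) := by
  refine Submodule.smul_induction_on hx ?_ ?_
  · intro r hr n _
    rw [← smul_comm]
    exact Submodule.smul_mem_smul hr trivial
  · intro x y hx hy
    rw [smul_add]
    exact add_mem hx hy

lemma map_mem (φ : F →ₗ[R] F) (I J L : Ideal R) (hφ : ∀ x, φ x ∈ I • (⊤ : Submodule R F))
    (hL : L * I ≤ J) {x : F} (hx : x ∈ L • (⊤ : Submodule R F)) :
    φ x ∈ J • (⊤ : Submodule R F) := by
  refine Submodule.smul_induction_on hx ?_ ?_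
  · intro r hr n _
    rw [map_smul]
    have h : r • φ n ∈ L • (I • (⊤ : Submodule R F)) := Submodule.smul_mem_smul hr (hφ n)
    rw [← Submodule.mul_smul] at h
    exact Submodule.smul_mono_left hL h
  · intro x y hx hy
    rw [map_add]
    exact add_mem hx hy

/-- A maximal proper subideal of a nonzero ideal in an Artinian local ring. -/
lemma exists_covby [IsLocalRing R] [IsArtinianRing R] (I : Ideal R) (hI : I ≠ ⊥) :
    ∃ (J : Ideal R) (a : R), J < I ∧ a ∈ I ∧ a ∉ J ∧ I = J ⊔ Ideal.span {a} ∧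
      IsLocalRing.maximalIdeal R * I ≤ J := by
  have hwf : WellFounded ((· > ·) : Ideal R → Ideal R → Prop) := wellFounded_gt
  obtain ⟨J, hJI, hJmax⟩ := hwf.has_min {J : Ideal R | J < I} ⟨⊥, bot_lt_iff_ne_bot.2 hI⟩
  have hJmax' : ∀ L : Ideal R, J ≤ L → L ≤ I → L ≠ I → L = J := by
    intro L hJL hLI hne
    have h1 := hJmax L (lt_of_le_of_ne hLI hne)
    by_contra h2
    exact h1 (lt_of_le_of_ne hJL (Ne.symm h2))
  replace hJI : J < I := hJI
  obtain ⟨a, haI, haJ⟩ := SetLike.exists_of_lt hJI
  have hsup : I = J ⊔ Ideal.span {a} := by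
    by_contra hne
    have h1 := hJmax' (J ⊔ Ideal.span {a}) le_sup_left
      (sup_le hJI.le ((Ideal.span_singleton_le_iff_mem _).2 haI)) (Ne.symm hne)
    exact haJ (h1 ▸ (le_sup_right : Ideal.span {a} ≤ J ⊔ Ideal.span {a})
      (Ideal.mem_span_singleton_self a))
  refine ⟨J, a, hJI, haI, haJ, hsup, ?_⟩
  have hle : J ⊔ IsLocalRing.maximalIdeal R * I ≤ I := sup_le hJI.le Ideal.mul_le_right
  by_cases hne : J ⊔ IsLocalRing.maximalIdeal R * I = I
  · exfalso
    have h1 : I ≤ J := by
      refine Submodule.le_of_le_smul_of_le_jacobson_bot (I := IsLocalRing.maximalIdeal R)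
        (IsNoetherian.noetherian I) ?_ ?_
      · rw [IsLocalRing.jacobson_eq_maximalIdeal ⊥ bot_ne_top]
      · rw [smul_eq_mul, hne]
    exact absurd hJI (not_lt_of_ge h1)
  · have h1 := hJmax' _ le_sup_left hle hne
    rw [← h1]
    exact le_sup_right

end Flat

variable {K : Type*} [Field K]
    {D : Type*} [Ring D] [Algebra K D]
    {E : Type*} [AddCommGroup E] [Module K E] [Module D E] [IsScalarTower K D E]
    {R : Type*} [CommRing R] [Algebra K R] [IsLocalRing R] [IsArtinianRing R]
    {F : Type*} [AddCommGroup F] [Module K F] [Module R F] [Module D F]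
    [IsScalarTower K R F] [IsScalarTower K D F] [SMulCommClass R D F] [Module.Flat R F]

theorem exists_scalar_of_mem
    (hE : ∀ ψ : E →ₗ[D] E, ∃ c : K, ∀ y : E, ψ y = c • y)
    (θ : F →ₗ[D] E) (hsurj : Function.Surjective θ)
    (hker : ∀ x : F, θ x = 0 ↔ x ∈ IsLocalRing.maximalIdeal R • (⊤ : Submodule R F))
    (I : Ideal R) :
    ∀ (φ : F →ₗ[R] F), (∀ (d : D) (x : F), φ (d • x) = d • φ x) →
      (∀ x, φ x ∈ I • (⊤ : Submodule R F)) → ∃ r ∈ I, ∀ x, φ x = r • x := by
  classical
  have hwf : WellFounded ((· < ·) : Ideal R → Ideal R → Prop) := wellFounded_lt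
  induction I using hwf.induction with
  | _ I ih =>
  intro φ hφ hφI
  by_cases hI : I = ⊥
  · subst hI
    refine ⟨0, zero_mem _, fun x => ?_⟩
    have h := hφI x
    rw [Submodule.bot_smul, Submodule.mem_bot] at h
    rw [h, zero_smul]
  obtain ⟨J, a, hJI, haI, haJ, hsup, hmI⟩ := exists_covby I hI
  have hcolon : ∀ c, a * c ∈ J → c ∈ IsLocalRing.maximalIdeal R := by
    intro c hc
    rw [IsLocalRing.mem_maximalIdeal]
    intro hu
    exact haJ ((Ideal.mul_unit_mem_iff_mem J hu).1 hc)
  -- the relation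
  have hrel : ∀ x, ∃ x', φ x - a • x' ∈ J • (⊤ : Submodule R F) := by
    intro x
    have h := hφI x
    rw [hsup, Submodule.sup_smul, Submodule.mem_sup] at h
    obtain ⟨u, hu, v, hv, huv⟩ := h
    rw [Submodule.ideal_span_singleton_smul] at hv
    obtain ⟨x', -, rfl⟩ := hv
    refine ⟨x', ?_⟩
    rw [← huv]
    change u + a • x' - a • x' ∈ _
    rwa [add_sub_cancel_right]
  choose g hg using hrel
  -- key: `θ x = 0` implies `θ x' = 0` for related elements
  have key : ∀ x x', φ x - a • x' ∈ J • (⊤ : Submodule R F) → θ x = 0 → θ x' = 0 := by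
    intro x x' hx hθ
    rw [hker] at hθ ⊢
    refine mem_of_smul_mem J a x' ?_ _ hcolon
    have h1 : φ x ∈ J • (⊤ : Submodule R F) := map_mem φ I J _ hφI hmI hθ
    have h2 := sub_mem h1 hx
    rwa [sub_sub_cancel] at h2
  let s : E → F := Function.surjInv hsurj
  have hs : ∀ y, θ (s y) = y := Function.surjInv_eq hsurj
  let ψ : E →ₗ[D] E :=
    { toFun := fun y => θ (g (s y))
      map_add' := fun y z => by
        rw [← sub_eq_zero, ← sub_sub, ← map_sub, ← map_sub]
        refine key (s (y + z) - s y - s z) _ ?_ ?_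
        · have h1 := sub_mem (sub_mem (hg (s (y + z))) (hg (s y))) (hg (s z))
          rw [map_sub, map_sub, smul_sub, smul_sub]
          convert h1 using 1
          abel
        · rw [map_sub, map_sub, hs, hs, hs]
          abel
      map_smul' := fun d y => by
        rw [RingHom.id_apply, ← sub_eq_zero, ← map_smul, ← map_sub]
        refine key (s (d • y) - d • s y) _ ?_ ?_
        · have h1 := sub_mem (hg (s (d • y))) (stable J d (hg (s y)))
          rw [map_sub, hφ, smul_sub]
          rw [smul_sub, ← smul_comm] at h1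
          convert h1 using 1
          abel
        · rw [map_sub, map_smul, hs, hs, sub_self] }
  have hψ : ∀ x, θ (g x) = ψ (θ x) := by
    intro x
    change θ (g x) = θ (g (s (θ x)))
    rw [← sub_eq_zero, ← map_sub]
    refine key (x - s (θ x)) _ ?_ ?_
    · have h1 := sub_mem (hg x) (hg (s (θ x)))
      rw [map_sub, smul_sub]
      convert h1 using 1
      abel
    · rw [map_sub, hs, sub_self]
  obtain ⟨c, hc⟩ := hE ψ
  have hθc : ∀ x : F, θ (algebraMap K R c • x) = c • θ x := by
    intro x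
    rw [algebraMap_smul, ← algebraMap_smul D c x, map_smul, algebraMap_smul]
  -- the corrected endomorphism
  obtain ⟨r', hr', hr⟩ := ih J hJI (φ - (a * algebraMap K R c) • LinearMap.id) (fun d x => by
      simp only [LinearMap.sub_apply, LinearMap.smul_apply, LinearMap.id_apply]
      rw [hφ, smul_sub, smul_comm]) (fun x => by
      simp only [LinearMap.sub_apply, LinearMap.smul_apply, LinearMap.id_apply]
      have h1 : g x - algebraMap K R c • x ∈
          IsLocalRing.maximalIdeal R • (⊤ : Submodule R F) := by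
        rw [← hker, map_sub, hψ, hc, hθc, sub_self]
      have h2 : a • (g x - algebraMap K R c • x) ∈ J • (⊤ : Submodule R F) := by
        have h3 : a • (g x - algebraMap K R c • x) ∈
            Ideal.span {a} • (IsLocalRing.maximalIdeal R • (⊤ : Submodule R F)) :=
          Submodule.smul_mem_smul (Ideal.mem_span_singleton_self a) h1
        rw [← Submodule.mul_smul] at h3
        refine Submodule.smul_mono_left ?_ h3
        rw [mul_comm]
        exact (Ideal.mul_mono_right ((Ideal.span_singleton_le_iff_mem _).2 haI)).trans hmI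
      have h4 := add_mem (hg x) h2
      rw [mul_smul]
      rw [smul_sub] at h4
      convert h4 using 1
      abel)
  refine ⟨r' + a * algebraMap K R c, add_mem (hJI.le hr') (I.mul_mem_right _ haI), fun x => ?_⟩
  have h := hr x
  simp only [LinearMap.sub_apply, LinearMap.smul_apply, LinearMap.id_apply] at h
  rw [sub_eq_iff_eq_add] at h
  rw [h, add_smul]

omit [IsArtinianRing R] [SMulCommClass R D F] in
/-- Faithfulness. -/
theorem eq_of_smul_eq [Nontrivial E] (θ : F →ₗ[D] E) (hsurj : Function.Surjective θ)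
    (hker : ∀ x : F, θ x = 0 ↔ x ∈ IsLocalRing.maximalIdeal R • (⊤ : Submodule R F))
    {r s : R} (h : ∀ x : F, r • x = s • x) : r = s := by
  by_contra hne
  obtain ⟨y, hy⟩ := exists_ne (0 : E)
  obtain ⟨x, rfl⟩ := hsurj y
  apply hy
  rw [hker]
  refine mem_of_smul_mem ⊥ (r - s) x ?_ _ ?_
  · rw [sub_smul, h, sub_self]
    exact zero_mem _
  · intro c hc
    rw [IsLocalRing.mem_maximalIdeal]
    intro hu
    rw [Ideal.mul_unit_mem_iff_mem _ hu, Ideal.mem_bot, sub_eq_zero] at hc
    exact hne hc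

/-- Endomorphisms of a deformation are scalars. -/
theorem existsUnique_scalar [Nontrivial E]
    (hE : ∀ ψ : E →ₗ[D] E, ∃ c : K, ∀ y : E, ψ y = c • y)
    (θ : F →ₗ[D] E) (hsurj : Function.Surjective θ)
    (hker : ∀ x : F, θ x = 0 ↔ x ∈ IsLocalRing.maximalIdeal R • (⊤ : Submodule R F))
    (φ : F →ₗ[R] F) (hφ : ∀ (d : D) (x : F), φ (d • x) = d • φ x) :
    ∃! r : R, ∀ x : F, φ x = r • x := by
  obtain ⟨r, -, hr⟩ := exists_scalar_of_mem hE θ hsurj hker ⊤ φ hφ (fun x => by
    rw [Submodule.top_smul]; trivial)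
  refine ⟨r, hr, fun s hs => ?_⟩
  exact eq_of_smul_eq θ hsurj hker (fun x => by rw [← hs, hr])

end K974.EndScalar
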